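import Cfsg.Agent.Lib.Helper28.Fi23Ord.C3159.ChkDefs

set_option autoImplicit false
set_option linter.unusedVariables false
set_option Elab.async false

namespace Cfsg.Agent.Lib.Helper28.Fi23Ord.C3159

open Cfsg.Agent.Lib.Helper28.Fi23Sub.Q8 (Gen)
open Cfsg.Agent.Lib.Helper28.TC

noncomputable section

theorem factP_blk96 : allRange factP 6 (96 * 2 ^ 6) = true := by decide +kernel
theorem factP_blk97 : allRange factP 6 (97 * 2 ^ 6) = true := by decide +kernel
theorem factP_blk98 : allRange factP 6 (98 * 2 ^ 6) = true := by decide +kernel
theorem factP_blk99 : allRange factP 6 (99 * 2 ^ 6) = true := by decide +kernel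
theorem factP_blk100 : allRange factP 6 (100 * 2 ^ 6) = true := by decide +kernel
theorem factP_blk101 : allRange factP 6 (101 * 2 ^ 6) = true := by decide +kernel
theorem factP_blk102 : allRange factP 6 (102 * 2 ^ 6) = true := by decide +kernel
theorem factP_blk103 : allRange factP 6 (103 * 2 ^ 6) = true := by decide +kernel
theorem factP_blk104 : allRange factP 6 (104 * 2 ^ 6) = true := by decide +kernel
theorem factP_blk105 : allRange factP 6 (105 * 2 ^ 6) = true := by decide +kernel
theorem factP_blk106 : allRange factP 6 (106 * 2 ^ 6) = true := by decide +kernel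
theorem factP_blk107 : allRange factP 6 (107 * 2 ^ 6) = true := by decide +kernel
theorem factP_blk108 : allRange factP 6 (108 * 2 ^ 6) = true := by decide +kernel
theorem factP_blk109 : allRange factP 6 (109 * 2 ^ 6) = true := by decide +kernel
theorem factP_blk110 : allRange factP 6 (110 * 2 ^ 6) = true := by decide +kernel
theorem factP_blk111 : allRange factP 6 (111 * 2 ^ 6) = true := by decide +kernel
theorem factP_blk112 : allRange factP 6 (112 * 2 ^ 6) = true := by decide +kernel
theorem factP_blk113 : allRange factP 6 (113 * 2 ^ 6) = true := by decide +kernel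
theorem factP_blk114 : allRange factP 6 (114 * 2 ^ 6) = true := by decide +kernel
theorem factP_blk115 : allRange factP 6 (115 * 2 ^ 6) = true := by decide +kernel
theorem factP_blk116 : allRange factP 6 (116 * 2 ^ 6) = true := by decide +kernel
theorem factP_blk117 : allRange factP 6 (117 * 2 ^ 6) = true := by decide +kernel
theorem factP_f1 : ∀ k, 96 ≤ k → k < 118 → allRange factP 6 (k * 2 ^ 6) = true := by
  intro k h1 h2
  interval_cases k
  · exact factP_blk96
  · exact factP_blk97
  · exact factP_blk98
  · exact factP_blk99
  · exact factP_blk100
  · exact factP_blk101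
  · exact factP_blk102
  · exact factP_blk103
  · exact factP_blk104
  · exact factP_blk105
  · exact factP_blk106
  · exact factP_blk107
  · exact factP_blk108
  · exact factP_blk109
  · exact factP_blk110
  · exact factP_blk111
  · exact factP_blk112
  · exact factP_blk113
  · exact factP_blk114
  · exact factP_blk115
  · exact factP_blk116
  · exact factP_blk117

end

end Cfsg.Agent.Lib.Helper28.Fi23Ord.C3159
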