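import Cfsg.Agent.Lib.Helper28.Fi23Ord.C3159.ChkDefs

set_option autoImplicit false
set_option linter.unusedVariables false
set_option Elab.async false

namespace Cfsg.Agent.Lib.Helper28.Fi23Ord.C3159

open Cfsg.Agent.Lib.Helper28.Fi23Sub.Q8 (Gen)
open Cfsg.Agent.Lib.Helper28.TC

noncomputable section

theorem permP_blk96 : allRange (guard nn permP) 5 (96 * 2 ^ 5) = true := by decide +kernel
theorem permP_blk97 : allRange (guard nn permP) 5 (97 * 2 ^ 5) = true := by decide +kernel
theorem permP_blk98 : allRange (guard nn permP) 5 (98 * 2 ^ 5) = true := by decide +kernel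
theorem permP_f2 : ∀ k, 96 ≤ k → k < 99 → allRange (guard nn permP) 5 (k * 2 ^ 5) = true := by
  intro k h1 h2
  interval_cases k
  · exact permP_blk96
  · exact permP_blk97
  · exact permP_blk98

end

end Cfsg.Agent.Lib.Helper28.Fi23Ord.C3159
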